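import Groth.Agent.Lib.Branch14.Elementary
import Groth.Agent.Lib.ElemNbhd15.Cofiltered
import Groth.Agent.S10440
import Groth.Agent.S10420

/-!
# Branches at a point of a decent algebraic space through elementary etale neighbourhoods
-/

set_option autoImplicit false

universe u

set_option backward.isDefEq.respectTransparency.types false

open CategoryTheory CategoryTheory.Limits AlgebraicGeometry AlgSp

namespace Groth.Agent.ElemBranch27

open Groth.Agent.ElemNbhd15

variable {S : Scheme.{u}}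

/-- An elementary etale neighbourhood of a neighbourhood is a neighbourhood. -/
theorem isElem_of_isEtaleNbhd {F : Sp S} {U₀ : Over S} {a₀ : (yon S).obj U₀ ⟶ F} {u₀ : U₀.left} {x : Points F}
    (h₀ : IsElemEtaleNbhd a₀ u₀ x) {W : Scheme.{u}} (g : W ⟶ U₀.left) (w : W) (h : Hens2.IsEtaleNbhd g w u₀) :
    IsElemEtaleNbhd ((yon S).map (Over.homMk g rfl : Over.mk (g ≫ U₀.hom) ⟶ U₀) ≫ a₀) w x := by
  obtain ⟨hg, hw, hres⟩ := h
  change g w = u₀ at hw
  subst hw
  let U : Over S := Over.mk (g ≫ U₀.hom)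
  let G : U ⟶ U₀ := Over.homMk g rfl
  haveI : Etale G.left := hg
  refine ⟨AlgSpace.repWith_comp ((repWith_yon_map_iff _ _).2 (show Etale G.left from hg)) h₀.etale, ?_, ?_⟩
  · rw [AlgSpDecent.ofPt_map_comp]
    exact h₀.ofPt_eq
  · rw [FieldPt.toHom_ofPt]
    haveI := mono_jOf_comp h₀.mono
    haveI : IsIso (g.residueFieldMap w) := (ConcreteCategory.isIso_iff_bijective _).2 hres
    let m : ptOf (U := U) w ⟶ ptOf (g w) := Over.homMk (Spec.map (g.residueFieldMap w)) (by
      change Spec.map _ ≫ U₀.left.fromSpecResidueField _ ≫ U₀.hom = _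
      rw [Scheme.Hom.SpecMap_residueFieldMap_fromSpecResidueField_assoc]
      rfl)
    haveI : IsIso ((Over.forget S).map m) := inferInstanceAs (IsIso (Spec.map (g.residueFieldMap w)))
    haveI : IsIso m := isIso_of_reflects_iso m (Over.forget S)
    have hm : m ≫ jOf (g w) = jOf (U := U) w ≫ G :=
      Over.OverMorphism.ext (Scheme.Hom.SpecMap_residueFieldMap_fromSpecResidueField _ _)
    change Mono ((yon S).map (jOf (U := U) w) ≫ (yon S).map G ≫ a₀)
    rw [← Functor.map_comp_assoc, ← hm, Functor.map_comp, Category.assoc]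
    exact mono_comp _ _

/-- Branch numbers agree along morphisms of elementary etale neighbourhoods. -/
theorem numBranchesAt_eq_of_map {X : Space S} (hX : IsDecent X.obj) {x : Points X.obj} {U U' : Over S}
    {a : (yon S).obj U ⟶ X.obj} {a' : (yon S).obj U' ⟶ X.obj} (g : U' ⟶ U) (u' : U'.left)
    (hg : (yon S).map g ≫ a = a') (ha : IsElemEtaleNbhd a (g.left u') x) (ha' : IsElemEtaleNbhd a' u' x) :
    Brnch.numBranchesAt U.left (g.left u') = Brnch.numBranchesAt U'.left u' := by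
  let R := Hens.Hh (U'.left.presheaf.stalk u')
  letI : Algebra ↥(U.left.presheaf.stalk (g.left u')) R :=
    ((algebraMap ↥(U'.left.presheaf.stalk u') R).comp (g.left.stalkMap u').hom).toAlgebra
  obtain ⟨hl, hh⟩ := Groth.Agent.S10440.result X hX x a a' g u' hg ha ha' R
  change Brnch.numBranches (U.left.presheaf.stalk (g.left u')) = Brnch.numBranches (U'.left.presheaf.stalk u')
  exact ((@Branch14.card_minimalPrimes_henselization _ _ _ R _ _ _ hl hh).symm).trans
    (Branch14.card_minimalPrimes_henselization (U'.left.presheaf.stalk u') R)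

/-- All elementary etale neighbourhoods have the same number of branches. -/
theorem numBranchesAt_eq {X : Space S} (hX : IsDecent X.obj) {x : Points X.obj} {U₁ U₂ : Over S}
    {a₁ : (yon S).obj U₁ ⟶ X.obj} {a₂ : (yon S).obj U₂ ⟶ X.obj} {u₁ : U₁.left} {u₂ : U₂.left}
    (h₁ : IsElemEtaleNbhd a₁ u₁ x) (h₂ : IsElemEtaleNbhd a₂ u₂ x) :
    Brnch.numBranchesAt U₁.left u₁ = Brnch.numBranchesAt U₂.left u₂ := by
  obtain ⟨U, a, v, g₁, g₂, hv, e₁, e₂, hu₁, hu₂⟩ :=
    (Groth.Agent.S10420.result X hX x).1 U₁ U₂ a₁ a₂ u₁ u₂ h₁ h₂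
  subst hu₁ hu₂
  exact (numBranchesAt_eq_of_map hX g₁ v e₁ h₁ hv).trans (numBranchesAt_eq_of_map hX g₂ v e₂ h₂ hv).symm

/-- Components are at most the branches. -/
theorem encard_components_le {X : Space S} (hX : IsDecent X.obj) {x : Points X.obj} {U U₀ : Over S}
    {a : (yon S).obj U ⟶ X.obj} {a₀ : (yon S).obj U₀ ⟶ X.obj} {u : U.left} {u₀ : U₀.left}
    (h : IsElemEtaleNbhd a u x) (h₀ : IsElemEtaleNbhd a₀ u₀ x) :
    {Z : Set ↥U.left | Z ∈ irreducibleComponents ↥U.left ∧ u ∈ Z}.encard ≤ Brnch.numBranchesAt U₀.left u₀ := by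
  refine (Branch14.encard_components_le_numBranchesAt (𝟙 U.left) u ⟨inferInstance, rfl, ?_⟩).trans
    (numBranchesAt_eq hX h h₀).le
  rw [Scheme.residueFieldMap_id]
  exact Function.bijective_id

/-- The branches are reached by components of a neighbourhood. -/
theorem exists_encard_ge {F : Sp S} {x : Points F} {U₀ : Over S}
    {a₀ : (yon S).obj U₀ ⟶ F} {u₀ : U₀.left} (h₀ : IsElemEtaleNbhd a₀ u₀ x) (n : ℕ)
    (hn : (n : ℕ∞) ≤ Brnch.numBranchesAt U₀.left u₀) :
    ∃ (U : Over S) (a : (yon S).obj U ⟶ F) (u : ↥U.left), IsElemEtaleNbhd a u x ∧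
      (n : ℕ∞) ≤ {Z : Set ↥U.left | Z ∈ irreducibleComponents ↥U.left ∧ u ∈ Z}.encard := by
  obtain ⟨W, g, w, hg, hle⟩ := Branch14.exists_elementary_nbhd_encard_ge u₀ n hn
  exact ⟨Over.mk (g ≫ U₀.hom), _, w, isElem_of_isEtaleNbhd h₀ g w hg, hle⟩

/-- Bounded by `n` and attaining `n` says that there are `n` branches. -/
theorem sup_eq_iff {X : Space S} (hX : IsDecent X.obj) {x : Points X.obj} {U₀ : Over S}
    {a₀ : (yon S).obj U₀ ⟶ X.obj} {u₀ : U₀.left} (h₀ : IsElemEtaleNbhd a₀ u₀ x) (n : ℕ) :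
    ((∀ (U : Over S) (a : (yon S).obj U ⟶ X.obj) (u : ↥U.left), IsElemEtaleNbhd a u x →
        {Z : Set ↥U.left | Z ∈ irreducibleComponents ↥U.left ∧ u ∈ Z}.encard ≤ n) ∧
      (∃ (U : Over S) (a : (yon S).obj U ⟶ X.obj) (u : ↥U.left), IsElemEtaleNbhd a u x ∧
        {Z : Set ↥U.left | Z ∈ irreducibleComponents ↥U.left ∧ u ∈ Z}.encard = n)) ↔
      Brnch.numBranchesAt U₀.left u₀ = n := by
  constructor
  · rintro ⟨hle, U, a, u, hu, hn⟩
    refine le_antisymm ?_ (hn ▸ encard_components_le hX hu h₀)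
    refine ENat.forall_natCast_le_iff_le.1 fun m hm => ?_
    obtain ⟨U', a', u', hu', hm'⟩ := exists_encard_ge h₀ m hm
    exact hm'.trans (hle U' a' u' hu')
  · intro h
    refine ⟨fun U a u hu => h ▸ encard_components_le hX hu h₀, ?_⟩
    obtain ⟨U, a, u, hu, hge⟩ := exists_encard_ge h₀ n h.ge
    exact ⟨U, a, u, hu, le_antisymm (h ▸ encard_components_le hX hu h₀) hge⟩

theorem components_eq_one_iff {X : Space S} (hX : IsDecent X.obj) {x : Points X.obj} {U₀ : Over S}
    {a₀ : (yon S).obj U₀ ⟶ X.obj} {u₀ : U₀.left} (h₀ : IsElemEtaleNbhd a₀ u₀ x) :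
    (∀ (U : Over S) (a : (yon S).obj U ⟶ X.obj) (u : ↥U.left), IsElemEtaleNbhd a u x →
        {Z : Set ↥U.left | Z ∈ irreducibleComponents ↥U.left ∧ u ∈ Z}.encard = 1) ↔
      Brnch.numBranchesAt U₀.left u₀ = 1 := by
  rw [← Nat.cast_one, ← sup_eq_iff hX h₀ 1]
  exact ⟨fun h => ⟨fun U a u hu => (h U a u hu).le, U₀, a₀, u₀, h₀, h U₀ a₀ u₀ h₀⟩,
    fun h U a u hu => le_antisymm (h.1 U a u hu)
      (by rw [Nat.cast_one]; exact Branch14.one_le_encard_components _ _)⟩

end Groth.Agent.ElemBranch27
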